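import Groth.Agent.L15.SmoothUnibranch.Components
import Groth.Agent.L26.Neron.Basic
import Groth.Prelude.Def_TwC
import Mathlib.AlgebraicGeometry.Morphisms.Preimmersion

/-!
# Sections of constant schemes extend uniquely from the generic fibre of a smooth scheme
-/

set_option autoImplicit false
set_option linter.style.haveILetI false
set_option backward.isDefEq.respectTransparency.types false

universe u

open CategoryTheory CategoryTheory.Limits AlgebraicGeometry TopologicalSpace

namespace Groth.L15.ConstExt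

variable {S : Scheme.{u}} {Z : Type u}

theorem index_unique {z w : Z} {y : ↥(∐ fun _ : Z => S)} (h : y ∈ Set.range (Sigma.ι (fun _ : Z => S) z))
    (h' : y ∈ Set.range (Sigma.ι (fun _ : Z => S) w)) : z = w := by
  obtain ⟨a, ha⟩ := h
  obtain ⟨b, hb⟩ := h'
  exact congrArg Sigma.fst ((sigmaι_eq_iff (fun _ : Z => S) z w a b).mp (ha.trans hb.symm))

theorem index_exists (y : ↥(∐ fun _ : Z => S)) : ∃ z, y ∈ Set.range (Sigma.ι (fun _ : Z => S) z) :=
  ⟨_, (sigmaOpenCover (fun _ : Z => S)).covers y⟩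

/-- The index is constant along specializations. -/
theorem index_of_specializes {W : Scheme.{u}} (a : W ⟶ ∐ fun _ : Z => S) {x y : W} (h : x ⤳ y) {z : Z}
    (hy : a y ∈ Set.range (Sigma.ι (fun _ : Z => S) z)) : a x ∈ Set.range (Sigma.ι (fun _ : Z => S) z) :=
  (h.map a.continuous).mem_open (Sigma.ι (fun _ : Z => S) z).isOpenEmbedding.isOpen_range hy

/-- Morphisms to a constant scheme over the base agree if their indices agree. -/
theorem ext_index {W : Scheme.{u}} (a b : W ⟶ ∐ fun _ : Z => S)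
    (h : a ≫ Sigma.desc (fun _ : Z => 𝟙 S) = b ≫ Sigma.desc (fun _ : Z => 𝟙 S))
    (hi : ∀ (w : W) (z : Z), a w ∈ Set.range (Sigma.ι (fun _ : Z => S) z) →
      b w ∈ Set.range (Sigma.ι (fun _ : Z => S) z)) : a = b := by
  let V : Z → W.Opens := fun z => a ⁻¹ᵁ (Sigma.ι (fun _ : Z => S) z).opensRange
  let 𝒰 : W.OpenCover := W.openCoverOfIsOpenCover V (eq_top_iff.mpr fun x _ =>
    Opens.mem_iSup.mpr (index_exists (a x)))
  refine 𝒰.hom_ext _ _ fun z => ?_
  let ι := Sigma.ι (fun _ : Z => S) z
  let l := IsOpenImmersion.lift ι ((V z).ι ≫ a) (by rintro _ ⟨p, rfl⟩; exact p.2)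
  let l' := IsOpenImmersion.lift ι ((V z).ι ≫ b) (by rintro _ ⟨p, rfl⟩; exact hi _ _ p.2)
  have hl : l ≫ ι = (V z).ι ≫ a := IsOpenImmersion.lift_fac _ _ _
  have hl' : l' ≫ ι = (V z).ι ≫ b := IsOpenImmersion.lift_fac _ _ _
  have hι : ι ≫ Sigma.desc (fun _ : Z => 𝟙 S) = 𝟙 S := Sigma.ι_desc _ _
  have : l = l' := by
    have h1 := congrArg (· ≫ Sigma.desc (fun _ : Z => 𝟙 S)) hl
    have h2 := congrArg (· ≫ Sigma.desc (fun _ : Z => 𝟙 S)) hl'
    simp only [Category.assoc, hι, Category.comp_id] at h1 h2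
    rw [h1, h2, h]
  show (V z).ι ≫ a = (V z).ι ≫ b
  rw [← hl, ← hl', this]

variable [IrreducibleSpace S] (hS : ∀ s : S, CAlg2.IsGeomUnibranch (S.presheaf.stalk s))
  {ξ : S} (hξ : IsGenericPoint ξ (Set.univ : Set S))
include hS hξ

omit hS in
theorem exists_over_maximal {T : Over S} [Smooth T.hom] {K : Set T.left} (hK : K ∈ irreducibleComponents T.left) :
    ∃ e : ↥(pullback T.hom (S.fromSpecResidueField ξ)),
      IsGenericPoint (pullback.fst T.hom (S.fromSpecResidueField ξ) e) K := by
  obtain ⟨η, hη⟩ := QuasiSober.sober hK.1 (isClosed_of_mem_irreducibleComponents K hK)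
  have hmax := (Groth.L07.EquidimQF.closure_singleton_mem_irreducibleComponents_iff η).1 (hη.def.symm ▸ hK)
  have h := Groth.L15.SmoothUnibranch.apply_eq_of_maximal T.hom η hmax
  rw [(genericPoint_spec S).eq hξ] at h
  obtain ⟨e, he⟩ : η ∈ Set.range (pullback.fst T.hom (S.fromSpecResidueField ξ)) := by
    rw [Scheme.Pullback.range_fst]
    show T.hom η ∈ Set.range (S.fromSpecResidueField ξ)
    rw [h, Scheme.range_fromSpecResidueField]
    exact Set.mem_singleton ξ
  exact ⟨e, by rwa [he]⟩

/-- Sections of a constant scheme over a smooth scheme are the same as over its generic fibre. -/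
theorem bijective_map_const (T : Over S) [Smooth T.hom] :
    Function.Bijective (fun f : T ⟶ TwC.const S Z => (Over.pullback (S.fromSpecResidueField ξ)).map f) := by
  rw [Groth.Agent.NeronL.map_bijective_iff]
  intro v hv
  let j := pullback.fst T.hom (S.fromSpecResidueField ξ)
  haveI : IsPreimmersion j := MorphismProperty.pullback_fst T.hom (S.fromSpecResidueField ξ) inferInstance
  let K : T.left → Set T.left := irreducibleComponent
  have hK : ∀ t, K t ∈ irreducibleComponents T.left := irreducibleComponent_mem_irreducibleComponents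
  -- indices are determined on the generic fibre
  have hdet : ∀ (a b : T.left ⟶ ∐ fun _ : Z => S) (t : T.left) (z : Z),
      (∀ e, j ≫ a = j ≫ b ∨ a (j e) = b (j e)) →
      a t ∈ Set.range (Sigma.ι (fun _ : Z => S) z) → b t ∈ Set.range (Sigma.ι (fun _ : Z => S) z) := by
    intro a b t z hab ha
    obtain ⟨e, he⟩ := exists_over_maximal (T := T) hξ (hK t)
    have hsp : j e ⤳ t := he.specializes mem_irreducibleComponent
    obtain ⟨w, hw⟩ := index_exists (b t)
    have heq : a (j e) = b (j e) := by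
      rcases hab e with h | h
      · exact congrArg (fun φ : pullback T.hom (S.fromSpecResidueField ξ) ⟶ _ => φ e) h
      · exact h
    have : z = w := index_unique (heq ▸ index_of_specializes a hsp ha) (index_of_specializes b hsp hw)
    exact this ▸ hw
  choose e he using fun Q : ↥(irreducibleComponents (T.left : Type u)) => exists_over_maximal (T := T) hξ Q.2
  choose zK hzK using fun Q : ↥(irreducibleComponents (T.left : Type u)) => index_exists (v (e Q))
  let V : ↥(irreducibleComponents (T.left : Type u)) → T.left.Opens := fun Q =>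
    ⟨Q, Groth.L15.SmoothUnibranch.isOpen_irreducibleComponent hS T.hom Q.2⟩
  let 𝒰 : T.left.OpenCover := T.left.openCoverOfIsOpenCover V (eq_top_iff.mpr fun x _ =>
    Opens.mem_iSup.mpr ⟨⟨irreducibleComponent x, hK x⟩, mem_irreducibleComponent⟩)
  let g : ∀ Q, (V Q).toScheme ⟶ ∐ fun _ : Z => S := fun Q =>
    ((V Q).ι ≫ T.hom) ≫ Sigma.ι (fun _ : Z => S) (zK Q)
  let F : T.left ⟶ ∐ fun _ : Z => S := 𝒰.glueMorphisms g fun Q Q' => by
    by_cases hQ : Q = Q'
    · subst hQ
      have : pullback.fst (𝒰.f Q) (𝒰.f Q) = pullback.snd (𝒰.f Q) (𝒰.f Q) :=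
        (cancel_mono (𝒰.f Q)).1 pullback.condition
      rw [this]
    · haveI : IsEmpty ↥(pullback (𝒰.f Q) (𝒰.f Q')) := ⟨fun p => hQ (by
        have h1 : (V Q).ι (pullback.fst (𝒰.f Q) (𝒰.f Q') p) = (V Q').ι (pullback.snd (𝒰.f Q) (𝒰.f Q') p) :=
          congrArg (fun φ : pullback (𝒰.f Q) (𝒰.f Q') ⟶ T.left => φ p) pullback.condition
        refine Subtype.ext ?_
        rw [Groth.L15.SmoothUnibranch.eq_irreducibleComponent hS T.hom Q.2 (pullback.fst (𝒰.f Q) (𝒰.f Q') p).2,
          Groth.L15.SmoothUnibranch.eq_irreducibleComponent hS T.hom Q'.2 (pullback.snd (𝒰.f Q) (𝒰.f Q') p).2]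
        exact congrArg irreducibleComponent h1)⟩
      exact (isInitialOfIsEmpty (X := pullback (𝒰.f Q) (𝒰.f Q'))).hom_ext _ _
  have hF : ∀ Q, (V Q).ι ≫ F = g Q := fun Q => Scheme.Cover.ι_glueMorphisms 𝒰 g _ Q
  have hFπ : F ≫ Sigma.desc (fun _ : Z => 𝟙 S) = T.hom := 𝒰.hom_ext _ _ fun Q => by
    show (V Q).ι ≫ _ = (V Q).ι ≫ _
    rw [← Category.assoc, hF, Category.assoc, Sigma.ι_desc, Category.comp_id]
  have hjF : j ≫ F = v := by
    refine ext_index _ _ ?_ fun w z hz => ?_
    · rw [Category.assoc, hFπ]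
      exact hv.symm
    · let Q : ↥(irreducibleComponents (T.left : Type u)) := ⟨K (j w), hK _⟩
      have hjw : j w ∈ V Q := mem_irreducibleComponent
      have hzQ : z = zK Q := by
        refine index_unique hz ⟨T.hom (j w), ?_⟩
        exact (congrArg (fun φ : (V Q).toScheme ⟶ _ => φ ⟨j w, hjw⟩) (hF Q)).symm
      have hsp : e Q ⤳ w := j.isEmbedding.isInducing.specializes_iff.1 ((he Q).specializes mem_irreducibleComponent)
      obtain ⟨z', hz'⟩ := index_exists (v w)
      have : zK Q = z' := index_unique (hzK Q) (index_of_specializes v hsp hz')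
      rw [hzQ, this]
      exact hz'
  refine ⟨Over.homMk F hFπ, hjF, fun f hf => Over.OverMorphism.ext ?_⟩
  show f.left = F
  refine ext_index _ _ ((Over.w f).trans hFπ.symm) fun t z ht => ?_
  exact hdet f.left F t z (fun e => Or.inl (hf.trans hjF.symm)) ht

/-- The same for a scheme isomorphic to a constant one. -/
theorem bijective_map (G : Over S) (eG : G ≅ TwC.const S Z) (T : Over S) [Smooth T.hom] :
    Function.Bijective (fun f : T ⟶ G => (Over.pullback (S.fromSpecResidueField ξ)).map f) := by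
  obtain ⟨hinj, hsurj⟩ := bijective_map_const (Z := Z) hS hξ T
  refine ⟨fun f f' h => ?_, fun φ => ?_⟩
  · rw [← cancel_mono eG.hom]
    refine hinj ?_
    simp only [Functor.map_comp]
    exact congrArg (· ≫ _) h
  · obtain ⟨f, hf⟩ := hsurj (φ ≫ (Over.pullback (S.fromSpecResidueField ξ)).map eG.hom)
    refine ⟨f ≫ eG.inv, ?_⟩
    show (Over.pullback (S.fromSpecResidueField ξ)).map (f ≫ eG.inv) = φ
    rw [Functor.map_comp, show (Over.pullback (S.fromSpecResidueField ξ)).map f = _ from hf, Category.assoc,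
      ← Functor.map_comp, Iso.hom_inv_id, CategoryTheory.Functor.map_id, Category.comp_id]

end Groth.L15.ConstExt
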