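import Groth.Agent.L15.ConstTorsor.Sheets

/-!
# Extensions by constant torsion-free groups have sections
-/

set_option autoImplicit false
set_option linter.style.haveILetI false
set_option backward.isDefEq.respectTransparency.types false

universe u

open CategoryTheory CategoryTheory.Limits MonoidalCategory CartesianMonoidalCategory MonObj AlgebraicGeometry
open scoped CategoryTheory.Obj

namespace Groth.L15.ConstExt

variable {B : Scheme.{u}} {G E P : Over B} [GrpObj G] [GrpObj E] [GrpObj P] {Z : Type u} [Group Z]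

/-- The projection of an extension by a constant torsion-free group of a smooth group over an
irreducible geometrically unibranch base has a section. -/
theorem exists_section_ext [IrreducibleSpace B] (hB : ∀ b : B, CAlg2.IsGeomUnibranch (B.presheaf.stalk b))
    [Smooth P.hom] (hZ : ∀ z : Z, IsOfFinOrder z → z = 1)
    (c : Z → (𝟙_ (Over B) ⟶ G)) (hc : ∀ z w, c z * c w = c (z * w)) (hGe : Etale G.hom)
    (hcpt : ∀ (X : Over B) (p : ↥(G ⊗ X).left), ∃! z, p ∈ Set.range (lift (toUnit X ≫ c z) (𝟙 X)).left)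
    {u : G ⟶ E} {v : E ⟶ P} (hex : NonAbH1.IsExactSeq Scheme.fppfPrecoverage u v) :
    ∃ s : P ⟶ E, s ≫ v = 𝟙 P := by
  haveI := hex.1
  haveI := hex.2.1
  obtain ⟨hE, hsurj⟩ := Groth.L28.Ext.etale_surjective_of_exact hex hGe
  let sh : Z → (E ⟶ G ⊗ E) := fun z => lift (toUnit E ≫ c z) (𝟙 E)
  let m : G ⊗ E ⟶ E := (fst G E ≫ u) * snd G E
  let t : Z → (E ⟶ E) := fun z => sh z ≫ m
  have ht' : ∀ z, t z = ((toUnit E ≫ c z) ≫ u) * 𝟙 E := fun z => by
    simp only [t, sh, m, comp_mul, lift_fst_assoc, lift_snd, Category.assoc]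
  have hmv : m ≫ v = snd G E ≫ v := by
    simp only [m, mul_comp, Category.assoc, Groth.L28.Ext.comp_v_comp_u hex, _root_.one_mul]
  have htv : ∀ z, t z ≫ v = v := fun z => by
    simp only [t, sh, Category.assoc, hmv, lift_snd_assoc, Category.id_comp]
  have ha : ∀ z, (t z).left ≫ v.left = v.left := fun z => congrArg CommaMorphism.left (htv z)
  -- `(g, e) ↦ (u g * e, e)` is an isomorphism onto `E ×_P E`
  let W : Over B := Over.mk (pullback.fst v.left v.left ≫ E.hom)
  let x : W ⟶ E := Over.homMk (pullback.fst v.left v.left)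
  let y : W ⟶ E := Over.homMk (pullback.snd v.left v.left) (by
    show pullback.snd v.left v.left ≫ E.hom = pullback.fst v.left v.left ≫ E.hom
    rw [← Over.w v, ← Category.assoc, ← Category.assoc, pullback.condition])
  have hxy : x ≫ v = y ≫ v := Over.OverMorphism.ext pullback.condition
  obtain ⟨g, hg⟩ := Groth.L28.Ext.exists_of_comp_eq_one hex (x := x * y⁻¹) (by
    rw [mul_comp, GrpObj.inv_comp, hxy, mul_inv_cancel])
  let Ψ : (G ⊗ E).left ⟶ pullback v.left v.left := pullback.lift m.left (snd G E).left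
    (congrArg CommaMorphism.left hmv)
  have hΨf : Ψ ≫ pullback.fst v.left v.left = m.left := pullback.lift_fst _ _ _
  have hΨs : Ψ ≫ pullback.snd v.left v.left = (snd G E).left := pullback.lift_snd _ _ _
  let Ψ' : G ⊗ E ⟶ W := Over.homMk Ψ (by
    show Ψ ≫ pullback.fst v.left v.left ≫ E.hom = _
    rw [← Category.assoc, hΨf]
    exact Over.w m)
  have hΨx : Ψ' ≫ x = m := Over.OverMorphism.ext hΨf
  have hΨy : Ψ' ≫ y = snd G E := Over.OverMorphism.ext hΨs
  let Φ : W ⟶ G ⊗ E := lift g y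
  have h1 : Φ ≫ m = x := by
    simp only [Φ, m, comp_mul, lift_fst_assoc, lift_snd, hg, inv_mul_cancel_right]
  have h2 : Φ ≫ Ψ' = 𝟙 W := by
    refine Over.OverMorphism.ext (pullback.hom_ext ?_ ?_)
    · rw [Over.comp_left, Category.assoc]
      show Φ.left ≫ Ψ ≫ _ = _
      rw [hΨf, Over.id_left, Category.id_comp]
      exact congrArg CommaMorphism.left h1
    · rw [Over.comp_left, Category.assoc]
      show Φ.left ≫ Ψ ≫ _ = _
      rw [hΨs, Over.id_left, Category.id_comp]
      exact congrArg CommaMorphism.left (lift_snd g y)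
  have h3 : Ψ' ≫ Φ = 𝟙 (G ⊗ E) := by
    apply CartesianMonoidalCategory.hom_ext
    · refine Groth.L28.Ext.comp_u_injective hex ?_
      simp only [Φ, Category.assoc, lift_fst_assoc, Category.id_comp, hg, comp_mul, GrpObj.comp_inv, hΨx, hΨy]
      simp only [m, mul_inv_cancel_right]
    · simp only [Φ, Category.assoc, lift_snd, hΨy, Category.id_comp]
  haveI : IsIso Ψ := ⟨Φ.left, congrArg CommaMorphism.left h3, congrArg CommaMorphism.left h2⟩
  have hΨ : ∀ z, (sh z).left ≫ Ψ = Groth.L15.ConstTorsor.sheet v.left (fun z => (t z).left) ha z := fun z => by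
    apply pullback.hom_ext
    · rw [Category.assoc, hΨf, Groth.L15.ConstTorsor.sheet_fst]
      rfl
    · rw [Category.assoc, hΨs, Groth.L15.ConstTorsor.sheet_snd, ← Over.comp_left]
      exact congrArg CommaMorphism.left (lift_snd (toUnit E ≫ c z) (𝟙 E))
  have hpt : ∀ w, ∃! z, w ∈ Set.range (Groth.L15.ConstTorsor.sheet v.left (fun z => (t z).left) ha z) := fun w => by
    obtain ⟨p, rfl⟩ : ∃ p, Ψ p = w := Ψ.homeomorph.surjective w
    obtain ⟨z, ⟨e, he⟩, hu⟩ := hcpt E p
    refine ⟨z, ⟨e, by rw [← hΨ, Scheme.Hom.comp_apply]; exact congrArg Ψ he⟩, fun z' hz' => hu z' ?_⟩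
    obtain ⟨e', he'⟩ := hz'
    rw [← hΨ, Scheme.Hom.comp_apply] at he'
    exact ⟨e', Ψ.homeomorph.injective he'⟩
  have hc1 : c 1 = 1 := by
    have := hc 1 1
    rwa [_root_.one_mul, mul_eq_left] at this
  obtain ⟨s, hs⟩ := Groth.L15.ConstTorsor.exists_section v.left (fun z => (t z).left) ha hpt
    (by
      show (t 1).left = (𝟙 E : E ⟶ E).left
      rw [ht', hc1, comp_one, one_comp, _root_.one_mul])
    (fun z w => by
      show (t (z * w)).left = (t w ≫ t z).left
      congr 1
      simp only [ht', comp_mul, Category.comp_id, comp_toUnit_assoc, Category.assoc]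
      simp only [← Category.assoc, ← hc, comp_mul, mul_comp, _root_.mul_assoc]) hZ hB P.hom
  exact ⟨Over.homMk s (by rw [← Over.w v, ← Category.assoc, hs, Category.id_comp]), Over.OverMorphism.ext hs⟩

/-- The constant sections of the base change of a constant group, with their sheets. -/
theorem exists_const_points {S : Scheme.{u}} (i : B ⟶ S) (G : Over S) [GrpObj G] (eG : G ≅ TwC.const S Z)
    (hG : TwC.IsConstGrp Z G eG) :
    ∃ c : Z → (𝟙_ (Over B) ⟶ Red.bc i G), (∀ z w, c z * c w = c (z * w)) ∧ Etale (Red.bc i G).hom ∧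
      ∀ (X : Over B) (p : ↥(Red.bc i G ⊗ X).left),
        ∃! z, p ∈ Set.range (lift (toUnit X ≫ c z) (𝟙 X)).left := by
  let c : Z → (𝟙_ (Over B) ⟶ Red.bc i G) := fun z =>
    Functor.LaxMonoidal.ε (Over.pullback i) ≫ (Over.pullback i).map (TwC.pt S Z z ≫ eG.inv)
  have hcfst : ∀ (X : Over B) (z : Z), (toUnit X ≫ c z).left ≫ pullback.fst G.hom i =
      (X.hom ≫ i) ≫ Sigma.ι (fun _ : Z => S) z ≫ eG.inv.left := fun X z => by
    have he : (Functor.LaxMonoidal.ε (Over.pullback i)).left ≫ pullback.fst (𝟙 S) i = i := by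
      rw [Over.ε_pullback_left, IsIso.inv_comp_eq, ← pullback.condition]
      exact (Category.comp_id _).symm
    show ((toUnit X).left ≫ (Functor.LaxMonoidal.ε (Over.pullback i)).left ≫
      ((Over.pullback i).map (TwC.pt S Z z ≫ eG.inv)).left) ≫ pullback.fst G.hom i = _
    simp only [Category.assoc]
    erw [pullback.lift_fst, reassoc_of% he]
    simp [TwC.pt]
  have hE : Etale G.hom := by
    haveI := Groth.L28.Ext.etale_const_hom (S := S) Z
    rw [← Over.w eG.hom]
    haveI : IsIso eG.hom.left := (Over.forget S).map_isIso eG.hom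
    infer_instance
  refine ⟨c, fun z w => ?_, MorphismProperty.pullback_snd G.hom i hE, fun X p => ?_⟩
  · simp only [c, ← comp_mul, ← Functor.map_mul, hG z w]
  let pr : (Red.bc i G ⊗ X).left ⟶ ∐ fun _ : Z => S :=
    (fst (Red.bc i G) X).left ≫ pullback.fst G.hom i ≫ eG.hom.left
  let sh : Z → (X ⟶ Red.bc i G ⊗ X) := fun z => lift (toUnit X ≫ c z) (𝟙 X)
  have hsh : ∀ z, (sh z).left ≫ pr = (X.hom ≫ i) ≫ Sigma.ι (fun _ : Z => S) z := fun z => by
    show (sh z).left ≫ (fst (Red.bc i G) X).left ≫ _ = _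
    rw [← Category.assoc (sh z).left, ← Over.comp_left, lift_fst, ← Category.assoc, hcfst]
    simp only [Category.assoc, ← Over.comp_left, Iso.inv_hom_id, Over.id_left]
    erw [Category.comp_id]
  obtain ⟨a, ha⟩ : ∃ a, pr p = Sigma.ι (fun _ : Z => S) a.1 a.2 :=
    let ⟨b, hb⟩ := (sigmaOpenCover (fun _ : Z => S)).covers (pr p)
    ⟨(⟨_, b⟩ : Σ _ : Z, S), hb.symm⟩
  refine ⟨a.1, ?_, fun z' hz' => ?_⟩
  · let π := (Red.bc i G ⊗ X).left.fromSpecResidueField p
    let T : Over B := Over.mk (π ≫ (Red.bc i G ⊗ X).hom)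
    let π' : T ⟶ Red.bc i G ⊗ X := Over.homMk π
    have hrange : Set.range (π ≫ pr) ⊆ Set.range (Sigma.ι (fun _ : Z => S) a.1) := by
      rintro _ ⟨t, rfl⟩
      exact ⟨a.2, ha.symm.trans ((congrArg pr (Scheme.fromSpecResidueField_apply p t)).symm.trans
        (Scheme.Hom.comp_apply π pr t).symm)⟩
    let l := IsOpenImmersion.lift (Sigma.ι (fun _ : Z => S) a.1) (π ≫ pr) hrange
    have hl : l ≫ Sigma.ι (fun _ : Z => S) a.1 = π ≫ pr := IsOpenImmersion.lift_fac _ _ _
    have hl' : l = T.hom ≫ i := by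
      have h := congrArg (· ≫ Sigma.desc (fun _ : Z => 𝟙 S)) hl
      simp only [Category.assoc, Sigma.ι_desc, Category.comp_id, pr] at h
      erw [Over.w eG.hom, pullback.condition] at h
      rw [h]
      show π ≫ (fst (Red.bc i G) X).left ≫ (Red.bc i G).hom ≫ i = (π ≫ (Red.bc i G ⊗ X).hom) ≫ i
      rw [Over.w_assoc, Category.assoc]
    have key : π' ≫ fst (Red.bc i G) X = toUnit T ≫ c a.1 := by
      refine Over.OverMorphism.ext (pullback.hom_ext ?_ ?_)
      · rw [hcfst, ← hl', ← Category.assoc, hl, Over.comp_left]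
        simp only [pr, Category.assoc, ← Over.comp_left, Iso.hom_inv_id, Over.id_left]
        erw [Category.comp_id]
        rfl
      · exact (Over.w (π' ≫ fst (Red.bc i G) X)).trans (Over.w (toUnit T ≫ c a.1)).symm
    have hπ : π' = (π' ≫ snd (Red.bc i G) X) ≫ sh a.1 := by
      apply CartesianMonoidalCategory.hom_ext
      · simp only [sh, Category.assoc, lift_fst, comp_toUnit_assoc, key]
      · simp [sh]
    let pt : T.left := IsLocalRing.closedPoint _
    exact ⟨(π' ≫ snd (Red.bc i G) X).left pt, (congrArg (fun φ : T ⟶ Red.bc i G ⊗ X => φ.left pt) hπ).symm.trans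
      (Scheme.fromSpecResidueField_apply p _)⟩
  · obtain ⟨x, hx⟩ := hz'
    have h := congrArg (fun φ : X.left ⟶ ∐ fun _ : Z => S => φ x) (hsh z')
    have h' : Sigma.ι (fun _ : Z => S) a.1 a.2 = Sigma.ι (fun _ : Z => S) z' ((X.hom ≫ i) x) :=
      ha.symm.trans ((congrArg pr hx).symm.trans h)
    exact (congrArg Sigma.fst ((sigmaι_eq_iff (fun _ : Z => S) _ _ _ _).mp h')).symm

end Groth.L15.ConstExt
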