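import Mathlib.CategoryTheory.Monoidal.Cartesian.Grp
import Mathlib.CategoryTheory.Limits.Shapes.Pullback.IsPullback.Basic

/-!
# Extensions of group objects descend along a functor fully faithful into a rigid group

If `F : C ⥤ D` is monoidal and `F.map : (T ⟶ G) → (F T ⟶ F G)` is bijective for all `T` in a class
closed under products and containing `G` and `P`, an extension of `F P` by `F G` admitting a section
of the projection comes from an extension of `P` by `G`.
-/

set_option autoImplicit false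
set_option linter.style.haveILetI false

universe v₁ v₂ u₁ u₂

open CategoryTheory CategoryTheory.Limits MonoidalCategory CartesianMonoidalCategory MonObj
open scoped CategoryTheory.Obj

namespace Groth.L15.ConstExt

variable {C : Type u₁} [Category.{v₁} C] [CartesianMonoidalCategory C]
  {D : Type u₂} [Category.{v₂} D] [CartesianMonoidalCategory D] (F : C ⥤ D) [F.Monoidal]

omit [CartesianMonoidalCategory C] [CartesianMonoidalCategory D] [F.Monoidal] in
theorem exists_inv_of_mono {X : C} (f g : X ⟶ X) (h : g ≫ f = 𝟙 X) (hm : Mono f) : f ≫ g = 𝟙 X :=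
  (cancel_mono f).1 (by rw [Category.assoc, h, Category.comp_id, Category.id_comp])

theorem hom_ext_map {X Y : C} {W : D} (a b : W ⟶ F.obj (X ⊗ Y))
    (h₁ : a ≫ F.map (fst X Y) = b ≫ F.map (fst X Y)) (h₂ : a ≫ F.map (snd X Y) = b ≫ F.map (snd X Y)) :
    a = b := by
  rw [← cancel_mono (Functor.Monoidal.μIso F X Y).inv]
  apply CartesianMonoidalCategory.hom_ext
  · simpa using h₁
  · simpa using h₂

theorem exists_extension (G P : C) [GrpObj G] [GrpObj P] (Sm : C → Prop)
    (hT : ∀ X Y, Sm X → Sm Y → Sm (X ⊗ Y)) (h1 : Sm (𝟙_ C)) (hG : Sm G) (hP : Sm P)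
    (hbij : ∀ T, Sm T → Function.Bijective (fun f : T ⟶ G => F.map f))
    (E' : D) [GrpObj E'] (u' : F.obj G ⟶ E') (v' : E' ⟶ F.obj P) [IsMonHom u'] [IsMonHom v']
    (huv : u' ≫ v' = 1)
    (hex : ∀ (W : D) (a b : W ⟶ E'), a ≫ v' = b ≫ v' → ∃ g : W ⟶ F.obj G, a * (g ≫ u') = b)
    (hinj : ∀ (W : D) (g g' : W ⟶ F.obj G), g ≫ u' = g' ≫ u' → g = g')
    (s : F.obj P ⟶ E') (hs : s ≫ v' = 𝟙 (F.obj P)) :
    ∃ (E : C) (_ : GrpObj E) (u : G ⟶ E) (v : E ⟶ P) (φ : F.obj E ≅ E'),
      IsMonHom u ∧ IsMonHom v ∧ u ≫ v = 1 ∧ IsPullback (fst E G) ((E ◁ u) ≫ μ[E]) v v ∧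
        (∃ σ : P ⟶ E, σ ≫ v = 𝟙 P) ∧ IsMonHom φ.hom ∧
        F.map u ≫ φ.hom = u' ∧ φ.hom ≫ v' = F.map v := by
  let E := G ⊗ P
  have hE : Sm E := hT _ _ hG hP
  have huv' : ∀ {W : D} (g : W ⟶ F.obj G), (g ≫ u') ≫ v' = 1 := fun g => by
    rw [Category.assoc, huv, comp_one]
  -- the isomorphism of the generic fibres
  let φh : F.obj E ⟶ E' := (F.map (snd G P) ≫ s) * (F.map (fst G P) ≫ u')
  obtain ⟨g, hg⟩ := hex E' (v' ≫ s) (𝟙 E') (by rw [Category.assoc, hs, Category.comp_id, Category.id_comp])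
  let φi : E' ⟶ F.obj E := lift g v' ≫ Functor.LaxMonoidal.μ F G P
  have hφv : φh ≫ v' = F.map (snd G P) := by
    simp only [φh, mul_comp, huv', _root_.mul_one, Category.assoc, hs, Category.comp_id]
  have hφi1 : φi ≫ F.map (fst G P) = g := by simp [φi]
  have hφi2 : φi ≫ F.map (snd G P) = v' := by simp [φi]
  have hgh : φh ≫ g = F.map (fst G P) := by
    apply hinj
    have h := congrArg (φh ≫ ·) hg
    simp only [comp_mul, Category.comp_id, reassoc_of% hφv] at h
    exact mul_left_cancel ((congrArg _ (Category.assoc _ _ _)).trans h)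
  obtain ⟨φ, hφ⟩ : ∃ φ : F.obj E ≅ E', φ.hom = φh := ⟨
    { hom := φh
      inv := φi
      hom_inv_id := by
        apply hom_ext_map
        · rw [Category.assoc, hφi1, hgh, Category.id_comp]
        · rw [Category.assoc, hφi2, hφv, Category.id_comp]
      inv_hom_id := by
        simp only [φh, comp_mul, reassoc_of% hφi1, reassoc_of% hφi2]
        exact hg }, rfl⟩
  have hφv' : φ.hom ≫ v' = F.map (snd G P) := by rw [hφ]; exact hφv
  -- maps into `E` from smooth objects
  have key : ∀ T, Sm T → ∀ x y : T ⟶ E, F.map x ≫ φ.hom = F.map y ≫ φ.hom →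
      x ≫ snd G P = y ≫ snd G P → x = y := fun T hT x y h h' => by
    rw [cancel_mono] at h
    refine CartesianMonoidalCategory.hom_ext _ _ ((hbij T hT).1 ?_) h'
    simp only [F.map_comp, h]
  have lifts : ∀ T, Sm T → ∀ (a : F.obj T ⟶ E') (p : T ⟶ P), a ≫ v' = F.map p →
      ∃ x : T ⟶ E, F.map x ≫ φ.hom = a ∧ x ≫ snd G P = p := fun T hT a p h => by
    obtain ⟨f, hf⟩ := (hbij T hT).2 (a ≫ φ.inv ≫ F.map (fst G P))
    have hf' : F.map f = a ≫ φ.inv ≫ F.map (fst G P) := hf
    refine ⟨lift f p, ?_, lift_snd _ _⟩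
    rw [← cancel_mono φ.inv, Category.assoc, Iso.hom_inv_id, Category.comp_id]
    apply hom_ext_map
    · rw [← F.map_comp, lift_fst, hf', Category.assoc]
    · rw [← F.map_comp, lift_snd, ← hφv', Category.assoc, Iso.inv_hom_id_assoc, h]
  -- the operations
  obtain ⟨one, hone, hone'⟩ := lifts _ h1 1 (1 : 𝟙_ C ⟶ P) (by rw [one_comp, Functor.map_one])
  obtain ⟨mul, hmul, hmul'⟩ := lifts _ (hT _ _ hE hE)
    ((F.map (fst E E) ≫ φ.hom) * (F.map (snd E E) ≫ φ.hom))
    ((fst E E ≫ snd G P) * (snd E E ≫ snd G P))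
    (by simp only [mul_comp, Category.assoc, hφv', Functor.map_mul, F.map_comp])
  obtain ⟨inv, hinv, hinv'⟩ := lifts _ hE φ.hom⁻¹ (snd G P)⁻¹
    (by rw [GrpObj.inv_comp, hφv', Functor.map_inv'])
  have hpt : ∀ {T : C} (x y : T ⟶ E),
      F.map (lift x y ≫ mul) ≫ φ.hom = (F.map x ≫ φ.hom) * (F.map y ≫ φ.hom) := fun x y => by
    rw [F.map_comp, Category.assoc, hmul, comp_mul, ← Category.assoc, ← F.map_comp, lift_fst,
      ← Category.assoc, ← F.map_comp, lift_snd]
  have hpt' : ∀ {T : C} (x y : T ⟶ E),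
      (lift x y ≫ mul) ≫ snd G P = (x ≫ snd G P) * (y ≫ snd G P) := fun x y => by
    rw [Category.assoc, hmul', comp_mul, lift_fst_assoc, lift_snd_assoc]
  have hone₂ : ∀ {T : C} (a : T ⟶ 𝟙_ C), F.map (a ≫ one) ≫ φ.hom = 1 := fun a => by
    rw [F.map_comp, Category.assoc, hone, comp_one]
  have hone₂' : ∀ {T : C} (a : T ⟶ 𝟙_ C), (a ≫ one) ≫ snd G P = 1 := fun a => by
    rw [Category.assoc, hone', comp_one]
  let inst : GrpObj E :=
    { one := one
      mul := mul
      inv := inv
      one_mul := by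
        have e : one ▷ E = lift (fst (𝟙_ C) E ≫ one) (snd (𝟙_ C) E) := by
          apply CartesianMonoidalCategory.hom_ext <;> simp
        rw [e, leftUnitor_hom]
        refine key _ (hT _ _ h1 hE) _ _ ?_ ?_
        · rw [hpt, hone₂, _root_.one_mul]
        · rw [hpt', hone₂', _root_.one_mul]
      mul_one := by
        have e : E ◁ one = lift (fst E (𝟙_ C)) (snd E (𝟙_ C) ≫ one) := by
          apply CartesianMonoidalCategory.hom_ext <;> simp
        rw [e, rightUnitor_hom]
        refine key _ (hT _ _ hE h1) _ _ ?_ ?_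
        · rw [hpt, hone₂, _root_.mul_one]
        · rw [hpt', hone₂', _root_.mul_one]
      mul_assoc := by
        let a := fst (E ⊗ E) E ≫ fst E E
        let b := fst (E ⊗ E) E ≫ snd E E
        let c := snd (E ⊗ E) E
        have e₁ : (mul ▷ E) = lift (lift a b ≫ mul) c := by
          apply CartesianMonoidalCategory.hom_ext
          · rw [lift_fst, whiskerRight_fst]
            congr 1
            apply CartesianMonoidalCategory.hom_ext <;> simp [a, b]
          · rw [lift_snd, whiskerRight_snd]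
        have e₂ : (α_ E E E).hom ≫ E ◁ mul = lift a (lift b c ≫ mul) := by
          apply CartesianMonoidalCategory.hom_ext
          · simp [a]
          · simp only [Category.assoc, lift_snd, whiskerLeft_snd]
            rw [← Category.assoc]
            congr 1
            apply CartesianMonoidalCategory.hom_ext <;> simp [b, c]
        rw [← Category.assoc, e₁, e₂]
        refine key _ (hT _ _ (hT _ _ hE hE) hE) _ _ ?_ ?_
        · rw [hpt, hpt, hpt, hpt, _root_.mul_assoc]
        · rw [hpt', hpt', hpt', hpt', _root_.mul_assoc]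
      left_inv := by
        refine key _ hE _ _ ?_ ?_
        · rw [hpt, hone₂, hinv, F.map_id, Category.id_comp, inv_mul_cancel]
        · rw [hpt', hone₂', hinv', Category.id_comp, inv_mul_cancel]
      right_inv := by
        refine key _ hE _ _ ?_ ?_
        · rw [hpt, hone₂, hinv, F.map_id, Category.id_comp, mul_inv_cancel]
        · rw [hpt', hone₂', hinv', Category.id_comp, mul_inv_cancel] }
  letI := inst
  have hmulE : ∀ {T : C} (x y : T ⟶ E), x * y = lift x y ≫ mul := fun x y => rfl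
  obtain ⟨u, hu, hu'⟩ := lifts G hG u' 1 (by rw [huv, Functor.map_one])
  haveI hmonu : IsMonHom u := by
    refine ⟨?_, ?_⟩
    · refine key _ h1 _ _ ?_ ?_
      · rw [F.map_comp, Category.assoc, hu, one_eq_one, Functor.map_one, one_comp]
        exact hone.symm
      · rw [Category.assoc, hu', comp_one]
        exact hone'.symm
    · rw [← CartesianMonoidalCategory.lift_fst_comp_snd_comp u u]
      refine key _ (hT _ _ hG hG) _ _ ?_ ?_
      · show F.map (μ[G] ≫ u) ≫ φ.hom = F.map (lift _ _ ≫ mul) ≫ φ.hom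
        rw [hpt, F.map_comp, Category.assoc, hu, F.map_comp, Category.assoc, hu, F.map_comp,
          Category.assoc, hu, mul_eq_mul, Functor.map_mul, mul_comp]
      · show (μ[G] ≫ u) ≫ snd G P = (lift _ _ ≫ mul) ≫ snd G P
        rw [hpt', Category.assoc, Category.assoc, Category.assoc, hu', comp_one, comp_one, comp_one,
          _root_.mul_one]
  haveI hmonv : IsMonHom (snd G P : E ⟶ P) := by
    refine ⟨?_, ?_⟩
    · exact hone'.trans (one_eq_one P).symm
    · refine hmul'.trans ?_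
      rw [Hom.mul_def, lift_fst_comp_snd_comp]
  have hmonφ : IsMonHom φ.hom := by
    refine ⟨?_, ?_⟩
    · show (Functor.LaxMonoidal.ε F ≫ F.map one) ≫ φ.hom = η
      rw [Category.assoc, hone, comp_one, one_eq_one]
    · show (Functor.LaxMonoidal.μ F E E ≫ F.map mul) ≫ φ.hom = _
      rw [Category.assoc, hmul, comp_mul, ← Category.assoc, Functor.Monoidal.μ_fst, ← Category.assoc,
        Functor.Monoidal.μ_snd, Hom.mul_def, lift_fst_comp_snd_comp]
  -- exactness
  let m : E ⊗ G ⟶ E := (E ◁ u) ≫ μ[E]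
  have hm : m = fst E G * (snd E G ≫ u) := by
    show (E ◁ u) ≫ μ[E] = _
    rw [Hom.mul_def]
    congr 1
    apply CartesianMonoidalCategory.hom_ext <;> simp
  have hmv : m ≫ snd G P = fst E G ≫ snd G P := by
    rw [hm, mul_comp, Category.assoc, hu', comp_one, _root_.mul_one]
  have hFm : ∀ {T : C} (w : T ⟶ E ⊗ G), F.map (w ≫ m) ≫ φ.hom =
      (F.map (w ≫ fst E G) ≫ φ.hom) * (F.map (w ≫ snd E G) ≫ u') := fun w => by
    rw [hm, comp_mul, hmulE, hpt, ← Category.assoc w (snd E G) u, F.map_comp (w ≫ snd E G) u,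
      Category.assoc (F.map (w ≫ snd E G)), hu]
  have hEG : Sm (E ⊗ G) := hT _ _ hE hG
  let y : E ⊗ G ⟶ E := lift (snd E G) (fst E G ≫ snd G P)
  obtain ⟨g', hg'⟩ := hex _ (F.map (fst E G) ≫ φ.hom) (F.map y ≫ φ.hom) (by
    rw [Category.assoc, Category.assoc, hφv', ← F.map_comp, ← F.map_comp, lift_snd])
  obtain ⟨h, hh⟩ := (hbij _ hEG).2 g'
  have hh' : F.map h = g' := hh
  let χ : E ⊗ G ⟶ E ⊗ G := lift (fst E G) h
  have hχ1 : χ ≫ fst E G = fst E G := lift_fst _ _
  have hχm : χ ≫ m = y := by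
    refine key _ hEG _ _ ?_ ?_
    · rw [hFm, hχ1, lift_snd, hh']
      exact hg'
    · rw [Category.assoc, hmv, ← Category.assoc, hχ1, lift_snd]
  let ψ : E ⊗ G ⟶ E ⊗ G := lift (fst E G) (m ≫ fst G P)
  have hψ1 : ψ ≫ fst E G = fst E G := lift_fst _ _
  have hψy : ψ ≫ y = m := by
    apply CartesianMonoidalCategory.hom_ext
    · rw [Category.assoc, lift_fst, lift_snd]
    · rw [Category.assoc, lift_snd, ← Category.assoc, hψ1, hmv]
  have hψχ : ψ ≫ χ = 𝟙 _ := by
    apply CartesianMonoidalCategory.hom_ext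
    · rw [Category.assoc, hχ1, hψ1, Category.id_comp]
    · apply (hbij _ hEG).1
      apply hinj
      have e₁ := hFm (ψ ≫ χ)
      have e₂ := hFm (𝟙 (E ⊗ G))
      rw [Category.assoc, hχm, hψy, Category.assoc ψ χ (fst E G), hχ1, hψ1] at e₁
      rw [Category.id_comp, Category.id_comp] at e₂
      exact mul_left_cancel (e₁.symm.trans e₂)
  have hχψ : χ ≫ ψ = 𝟙 _ := by
    apply CartesianMonoidalCategory.hom_ext
    · rw [Category.assoc, hψ1, hχ1, Category.id_comp]
    · rw [Category.assoc, lift_snd, ← Category.assoc, hχm, lift_fst, Category.id_comp]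
  have hPB : IsPullback (fst E G) m (snd G P : E ⟶ P) (snd G P) := by
    refine IsPullback.mk' hmv.symm (fun W w w' e₁ e₂ => ?_) (fun W a b e => ?_)
    · haveI : Mono ψ := (SplitMono.mk χ hψχ).mono
      rw [← cancel_mono ψ]
      apply CartesianMonoidalCategory.hom_ext
      · rw [Category.assoc, Category.assoc, hψ1, e₁]
      · rw [Category.assoc, Category.assoc, lift_snd, ← Category.assoc, e₂, Category.assoc]
    · refine ⟨lift a (b ≫ fst G P) ≫ χ, by rw [Category.assoc, hχ1, lift_fst], ?_⟩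
      rw [Category.assoc, hχm]
      apply CartesianMonoidalCategory.hom_ext
      · rw [Category.assoc, lift_fst, lift_snd]
      · rw [Category.assoc, lift_snd, lift_fst_assoc, e]
  exact ⟨E, inst, u, snd G P, φ, hmonu, hmonv, hu', hPB,
    ⟨lift (1 : P ⟶ G) (𝟙 P), lift_snd _ _⟩, hmonφ, hu, hφv'⟩

end Groth.L15.ConstExt
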